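import Mathlib

/-!
# Prime graphs of split extensions by elementary abelian 2-groups

`SamePG A B`: the groups `A`, `B` have the same prime divisors of their orders and the same pairs
of distinct primes `p, q` with an element of order `p q`.  If `N` is a finite abelian group of
exponent two on which the finite group `G` of even order acts, and every odd prime divisor `q` of
`#G` either has an element of order `2 q` in `G` or all elements of order `q` act without
nontrivial fixed points, then `N ⋊ G` has the same prime graph as `G`.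
-/

set_option autoImplicit false
set_option linter.all false

namespace Cfsg.Agent.Helper19.G24

open SemidirectProduct

universe u v

/-- same prime divisors of the orders and the same joined pairs of primes -/
def SamePG (A : Type u) (B : Type v) [Group A] [Group B] : Prop :=
  (∀ p : ℕ, p.Prime → (p ∣ Nat.card A ↔ p ∣ Nat.card B)) ∧
    (∀ p q : ℕ, p.Prime → q.Prime → p ≠ q →
      ((∃ g : A, orderOf g = p * q) ↔ (∃ g : B, orderOf g = p * q)))

theorem SamePG.symm {A : Type u} {B : Type v} [Group A] [Group B] (h : SamePG A B) : SamePG B A :=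
  ⟨fun p hp => (h.1 p hp).symm, fun p q hp hq hne => (h.2 p q hp hq hne).symm⟩

theorem SamePG.trans {A : Type u} {B : Type v} {C : Type*} [Group A] [Group B] [Group C]
    (h : SamePG A B) (h' : SamePG B C) : SamePG A C :=
  ⟨fun p hp => (h.1 p hp).trans (h'.1 p hp),
    fun p q hp hq hne => (h.2 p q hp hq hne).trans (h'.2 p q hp hq hne)⟩

theorem SamePG.of_equiv {A : Type u} {B : Type v} [Group A] [Group B] (e : A ≃* B) : SamePG A B := by
  refine ⟨fun p _ => by rw [Nat.card_congr e.toEquiv], fun p q _ _ _ => ?_⟩
  constructor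
  · rintro ⟨g, hg⟩
    exact ⟨e g, by rw [e.orderOf_eq, hg]⟩
  · rintro ⟨g, hg⟩
    exact ⟨e.symm g, by rw [e.symm.orderOf_eq, hg]⟩

theorem SamePG.of_range {A : Type u} {B : Type v} [Group A] [Group B] [Finite A] [Finite B]
    (h : Set.range (orderOf : A → ℕ) = Set.range (orderOf : B → ℕ)) : SamePG A B := by
  have hmem : ∀ n, (∃ x : A, orderOf x = n) ↔ (∃ x : B, orderOf x = n) := by
    intro n
    have := Set.ext_iff.mp h n
    simpa [Set.mem_range] using this
  refine ⟨fun p hp => ?_, fun p q _ _ _ => hmem _⟩
  have : Fact p.Prime := ⟨hp⟩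
  constructor
  · intro hd
    obtain ⟨x, hx⟩ := exists_prime_orderOf_dvd_card' p hd
    obtain ⟨y, hy⟩ := (hmem p).mp ⟨x, hx⟩
    exact hy ▸ orderOf_dvd_natCard y
  · intro hd
    obtain ⟨x, hx⟩ := exists_prime_orderOf_dvd_card' p hd
    obtain ⟨y, hy⟩ := (hmem p).mpr ⟨x, hx⟩
    exact hy ▸ orderOf_dvd_natCard y

/-- in a group whose order is divisible by `p` only once, two elements of order `p` generate
conjugate subgroups -/
theorem exists_conj_zpow_of_sq_not_dvd {G : Type*} [Group G] [Finite G] (p : ℕ) [hp : Fact p.Prime]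
    (hpG : ¬p ^ 2 ∣ Nat.card G) {u g : G} (hu : orderOf u = p) (hg : orderOf g = p) :
    ∃ c : G, ∃ m : ℤ, c⁻¹ * u * c = g ^ m := by
  have hdvd : p ∣ Nat.card G := hu ▸ orderOf_dvd_natCard u
  have hfac : (Nat.card G).factorization p = 1 := by
    have h1 : 1 ≤ (Nat.card G).factorization p :=
      (hp.out.dvd_iff_one_le_factorization Nat.card_pos.ne').mp hdvd
    have h2 : ¬2 ≤ (Nat.card G).factorization p := by
      intro h
      exact hpG ((hp.out.pow_dvd_iff_le_factorization Nat.card_pos.ne').mpr h)
    omega
  have cg : Nat.card (Subgroup.zpowers g) = p ^ (Nat.card G).factorization p := by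
    rw [hfac, Nat.card_zpowers, hg, pow_one]
  have cu : Nat.card (Subgroup.zpowers u) = p ^ (Nat.card G).factorization p := by
    rw [hfac, Nat.card_zpowers, hu, pow_one]
  set Pg : Sylow p G := Sylow.ofCard (Subgroup.zpowers g) cg with hPg
  set Pu : Sylow p G := Sylow.ofCard (Subgroup.zpowers u) cu with hPu
  obtain ⟨c, hc⟩ := MulAction.exists_smul_eq G Pg Pu
  have hx : u ∈ (Pu : Subgroup G) := by
    rw [hPu, Sylow.coe_ofCard]; exact Subgroup.mem_zpowers u
  rw [← hc, Sylow.coe_subgroup_smul, Subgroup.mem_pointwise_smul_iff_inv_smul_mem] at hx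
  rw [hPg, Sylow.coe_ofCard] at hx
  rw [MulAut.smul_def, MulAut.conj_inv_apply] at hx
  obtain ⟨m, hm⟩ := Subgroup.mem_zpowers_iff.mp hx
  exact ⟨c, m, hm.symm⟩

/-- if one element of order `q` acts without fixed points and `q ∥ #G`, all of them do -/
theorem fpf_of_one {G N : Type*} [Group G] [Finite G] [Group N] (φ : G →* MulAut N) (q : ℕ)
    [Fact q.Prime] (hq2 : ¬q ^ 2 ∣ Nat.card G) (u : G) (hu : orderOf u = q)
    (hfu : ∀ n : N, φ u n = n → n = 1) :
    ∀ g : G, orderOf g = q → ∀ n : N, φ g n = n → n = 1 := by
  intro g hg n hn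
  obtain ⟨c, m, hcm⟩ := exists_conj_zpow_of_sq_not_dvd q hq2 hu hg
  -- the stabiliser of `n`
  let S : Subgroup G :=
    { carrier := {h | φ h n = n}
      one_mem' := by simp
      mul_mem' := by
        intro a b ha hb
        show φ (a * b) n = n
        rw [map_mul, MulAut.mul_apply]
        rw [Set.mem_setOf_eq] at ha hb
        rw [hb, ha]
      inv_mem' := by
        intro a ha
        show φ a⁻¹ n = n
        rw [Set.mem_setOf_eq] at ha
        rw [map_inv]
        conv_lhs => rw [← ha]
        exact MulAut.inv_apply_self _ _ _ }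
  have hgS : g ∈ S := hn
  have hgm : g ^ m ∈ S := S.zpow_mem hgS m
  have hgm' : φ (g ^ m) n = n := hgm
  rw [← hcm, map_mul, map_mul, MulAut.mul_apply, MulAut.mul_apply] at hgm'
  -- φ c⁻¹ (φ u (φ c n)) = n
  have h1 : φ u (φ c n) = φ c n := by
    have := congrArg (φ c) hgm'
    rw [map_inv, MulAut.apply_inv_self] at this
    exact this
  have h2 := hfu _ h1
  have h3 : φ c n = φ c 1 := by rw [h2, map_one]
  exact (φ c).injective h3

theorem dvd_prime_mul_prime {p q d : ℕ} (hp : p.Prime) (hq : q.Prime) (hd : d ∣ p * q) :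
    d = 1 ∨ d = p ∨ d = q ∨ d = p * q := by
  obtain ⟨a, b, ha, hb, rfl⟩ := (Nat.dvd_mul).mp hd
  rcases (Nat.dvd_prime hp).mp ha with rfl | rfl <;> rcases (Nat.dvd_prime hq).mp hb with rfl | rfl
  · left; rfl
  · right; right; left; simp
  · right; left; simp
  · right; right; right; rfl

/-- the main criterion -/
theorem samePG_semidirect {G : Type u} [Group G] [Finite G] {N : Type v} [CommGroup N] [Finite N]
    (φ : G →* MulAut N) (hN2 : ∀ n : N, n * n = 1) (h2 : 2 ∣ Nat.card G)
    (hodd : ∀ q : ℕ, q.Prime → q ≠ 2 → q ∣ Nat.card G →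
      (∃ g : G, orderOf g = 2 * q) ∨ (∀ g : G, orderOf g = q → ∀ n : N, φ g n = n → n = 1)) :
    SamePG G (N ⋊[φ] G) := by
  have hfin : Finite (N ⋊[φ] G) := Finite.of_equiv _ (SemidirectProduct.equivProd (φ := φ)).symm
  have hcard : Nat.card (N ⋊[φ] G) = Nat.card N * Nat.card G := by
    rw [Nat.card_congr (SemidirectProduct.equivProd (φ := φ)), Nat.card_prod]
  have hNp : IsPGroup 2 N := by
    intro n
    exact ⟨1, by rw [pow_one, pow_two, hN2]⟩
  obtain ⟨k, hk⟩ := (IsPGroup.iff_card (p := 2) (G := N)).mp hNp
  refine ⟨fun p hp => ?_, fun p q hp hq hne => ?_⟩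
  · rw [hcard]
    constructor
    · intro h
      exact h.mul_left _
    · intro h
      rcases (Nat.Prime.dvd_mul hp).mp h with h | h
      · rw [hk] at h
        have := (Nat.prime_dvd_prime_iff_eq hp Nat.prime_two).mp (hp.dvd_of_dvd_pow h)
        rw [this]
        exact h2
      · exact h
  · constructor
    · rintro ⟨g, hg⟩
      exact ⟨inr g, by rw [orderOf_injective (inr : G →* N ⋊[φ] G) inr_injective g, hg]⟩
    · rintro ⟨x, hx⟩
      set g : G := rightHom x with hgdef
      set d : ℕ := orderOf g with hd
      have hdx : d ∣ p * q := by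
        rw [← hx]
        exact orderOf_map_dvd rightHom x
      -- `x ^ d` lies in the kernel
      have hker : x ^ d ∈ (rightHom : N ⋊[φ] G →* G).ker := by
        rw [MonoidHom.mem_ker, map_pow]
        exact pow_orderOf_eq_one g
      rw [← range_inl_eq_ker_rightHom] at hker
      obtain ⟨n, hn⟩ := hker
      have h2d : x ^ (d * 2) = 1 := by
        rw [pow_mul, ← hn, ← map_pow, pow_two, hN2, map_one]
      have hpq2d : p * q ∣ d * 2 := by
        rw [← hx]
        exact orderOf_dvd_of_pow_eq_one h2d
      -- `φ g n = n`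
      have hfix : φ g n = n := by
        have hcomm : x * inl n = inl n * x := by
          rw [hn, ← pow_succ', ← pow_succ]
        have := congrArg SemidirectProduct.left hcomm
        rw [mul_left, mul_left, left_inl, right_inl, map_one, MulAut.one_apply] at this
        rw [mul_comm n x.left] at this
        exact mul_left_cancel this
      -- if `d` is a prime `r` and `p q ∣ 2 r` then the other prime is `2`
      have key : ∀ r s : ℕ, r.Prime → s.Prime → r ≠ s → p * q = r * s → d = r →
          ∃ g : G, orderOf g = p * q := by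
        intro r s hr hs hrs hpqrs hdr
        rw [hpqrs, hdr] at hpq2d
        have hs2 : s ∣ 2 := by
          have : r * s ∣ r * 2 := hpq2d
          exact Nat.dvd_of_mul_dvd_mul_left hr.pos this
        have hs2' : s = 2 := (Nat.prime_dvd_prime_iff_eq hs Nat.prime_two).mp hs2
        subst hs2'
        have hn1 : n ≠ 1 := by
          intro h1
          rw [h1, map_one] at hn
          have : orderOf x ∣ d := orderOf_dvd_of_pow_eq_one hn.symm
          rw [hx, hpqrs, hdr] at this
          have := Nat.le_of_dvd hr.pos this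
          have := hr.two_le
          nlinarith
        have hrG : r ∣ Nat.card G := by
          rw [← hdr, hd]
          exact orderOf_dvd_natCard g
        rcases hodd r hr hrs hrG with ⟨g', hg'⟩ | hf
        · exact ⟨g', by rw [hg', hpqrs, mul_comm]⟩
        · exact absurd (hf g (by rw [← hd, hdr]) n hfix) hn1
      rcases dvd_prime_mul_prime hp hq hdx with h1 | h1 | h1 | h1
      · -- `d = 1`
        rw [h1] at hpq2d
        have := Nat.le_of_dvd (by norm_num) hpq2d
        have := hp.two_le
        have := hq.two_le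
        nlinarith
      · exact key p q hp hq hne rfl h1
      · exact key q p hq hp hne.symm (mul_comm p q) h1
      · exact ⟨g, by rw [← hd, h1]⟩

end Cfsg.Agent.Helper19.G24
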