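import Cfsg.Agent.Helper19.G24.Rep6Hom
import Cfsg.Agent.S1077
import Cfsg.Agent.S1078
import Cfsg.Agent.S1055
import Cfsg.Agent.S1059

/-!
# The Steinberg group of type `G₂` over `F4` is `G₂(4)`; the representation `rho6` is faithful
-/

set_option autoImplicit false
set_option linter.all false

namespace Cfsg.Agent.Helper19.G24

open Cfsg.Lie Cfsg.Agent.Helper19.Sp4

/-- the presented group, abbreviated -/
abbrev St : Type := chevG2.SteinbergGroup F4

/-- Steinberg's isomorphism for `G₂(4)` -/
theorem exists_iso : Nonempty (St ≃* ↥(chevG2.group F4)) := by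
  obtain ⟨θ, hsurj, hker, -⟩ := Cfsg.Agent.S1077.result (K := F4) chevG2 (by simp)
  have hc : Subgroup.center St = ⊥ := Cfsg.Agent.S1078.result (K := F4) chevG2 (by simp)
  have hinj : Function.Injective θ := by
    rw [← MonoidHom.ker_eq_bot_iff, hker, hc]
  exact ⟨MulEquiv.ofBijective θ ⟨hinj, hsurj⟩⟩

instance : Finite St := by
  obtain ⟨e⟩ := exists_iso
  exact Finite.of_equiv _ e.symm.toEquiv

theorem card_St : Nat.card St = 251596800 := by
  obtain ⟨e⟩ := exists_iso
  rw [Nat.card_congr e.toEquiv, Cfsg.Agent.S1059.result (F := F4) (q := 4) F4.card_eq]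
  norm_num

theorem simple_St : IsSimpleGroup St := by
  obtain ⟨e⟩ := exists_iso
  have h := (Cfsg.Agent.S1055.result (F := F4) ⟨F4.w, by decide, by decide⟩).1
  exact (MulEquiv.isSimpleGroup_congr e).mpr h

end Cfsg.Agent.Helper19.G24
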