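import Cfsg.Agent.Helper19.G24.Iso
import Cfsg.Agent.Helper19.G24.PGraph

/-!
# The action of `G₂(4)` on its six-dimensional module: faithfulness, some element orders,
fixed-point-free elements of orders 7 and 13
-/

set_option autoImplicit false
set_option linter.all false

namespace Cfsg.Agent.Helper19.G24

open Cfsg.Lie Cfsg.Agent.Helper19.Sp4 Matrix

/-- the module -/
abbrev V6 : Type := Fin 6 → F4

/-- an invertible matrix as an automorphism of the multiplicative copy of the module -/
def actMul (M : M6ˣ) : MulAut (Multiplicative V6) :=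
  MulEquiv.mk' ⟨fun v => Multiplicative.ofAdd (M.val *ᵥ Multiplicative.toAdd v),
    fun v => Multiplicative.ofAdd ((M⁻¹).val *ᵥ Multiplicative.toAdd v),
    fun v => by
      show Multiplicative.ofAdd ((M⁻¹).val *ᵥ (M.val *ᵥ Multiplicative.toAdd v)) = v
      rw [Matrix.mulVec_mulVec, ← Units.val_mul, inv_mul_cancel, Units.val_one, Matrix.one_mulVec]
      rfl,
    fun v => by
      show Multiplicative.ofAdd (M.val *ᵥ ((M⁻¹).val *ᵥ Multiplicative.toAdd v)) = v
      rw [Matrix.mulVec_mulVec, ← Units.val_mul, mul_inv_cancel, Units.val_one, Matrix.one_mulVec]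
      rfl⟩
    (fun v w => by
      show Multiplicative.ofAdd (M.val *ᵥ (Multiplicative.toAdd v + Multiplicative.toAdd w)) =
        Multiplicative.ofAdd (M.val *ᵥ Multiplicative.toAdd v) *
          Multiplicative.ofAdd (M.val *ᵥ Multiplicative.toAdd w)
      rw [Matrix.mulVec_add]
      rfl)

theorem actMul_apply (M : M6ˣ) (v : V6) :
    actMul M (Multiplicative.ofAdd v) = Multiplicative.ofAdd (M.val *ᵥ v) := rfl

/-- the action homomorphism -/
def actHom : M6ˣ →* MulAut (Multiplicative V6) where
  toFun := actMul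
  map_one' := by
    ext v : 1
    change actMul 1 (Multiplicative.ofAdd (Multiplicative.toAdd v)) = v
    rw [actMul_apply, Units.val_one, Matrix.one_mulVec]
    rfl
  map_mul' := by
    intro A B
    ext v : 1
    change actMul (A * B) (Multiplicative.ofAdd (Multiplicative.toAdd v)) =
      actMul A (actMul B (Multiplicative.ofAdd (Multiplicative.toAdd v)))
    rw [actMul_apply, actMul_apply, actMul_apply, Units.val_mul, Matrix.mulVec_mulVec]

/-- the action of the Steinberg group on the multiplicative copy of the module -/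
noncomputable def phi : St →* MulAut (Multiplicative V6) := actHom.comp rho6

theorem phi_apply (s : St) (v : V6) :
    phi s (Multiplicative.ofAdd v) = Multiplicative.ofAdd ((rho6 s).val *ᵥ v) := rfl

/-- the element of the Steinberg group given by a word in the generators -/
def stW (w : List (ℕ × F4)) : St := PresentedGroup.mk (chevG2.steinbergRels F4) (chevG2.stWord w)

theorem rho6_stW (w : List (ℕ × F4)) : rho6 (stW w) = wU w := by
  have : rho6 (stW w) = lift6 (chevG2.stWord w) := rfl
  rw [this, lift6_stWord]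

theorem rho6_stW_val (w : List (ℕ × F4)) : ((rho6 (stW w) : M6ˣ) : M6) = wm w := by
  rw [rho6_stW, wU_val]

/-! ### faithfulness -/

theorem Y6_six_ne : Y6 6 1 ≠ 1 := by
  intro h
  have := congrFun (congrFun h 2) 1
  revert this
  decide

theorem rho6_injective : Function.Injective rho6 := by
  have hs := simple_St
  rw [← MonoidHom.ker_eq_bot_iff]
  rcases (rho6.normal_ker).eq_bot_or_eq_top with h | h
  · exact h
  · exfalso
    have hm : chevG2.stGen F4 6 1 ∈ rho6.ker := by rw [h]; trivial
    rw [MonoidHom.mem_ker, rho6_stGen] at hm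
    have := congrArg Units.val hm
    rw [YU_val, Units.val_one] at this
    exact Y6_six_ne this

/-! ### orders -/

/-- powers with the sums written out -/
def pw (M : M6) : ℕ → M6
  | 0 => one6
  | k + 1 => mul6 M (pw M k)

theorem pw_eq (M : M6) (k : ℕ) : pw M k = M ^ k := by
  induction k with
  | zero => rw [pow_zero]; exact one6_eq
  | succ k ih =>
    have : pw M (k + 1) = mul6 M (pw M k) := rfl
    rw [this, ih, mul6_eq, pow_succ']

/-- Boolean test that a matrix has order `n` -/
def ordChk (M : M6) (n : ℕ) : Bool :=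
  eq6 (pw M n) one6 && (List.range n).all fun m => m == 0 || !(eq6 (pw M m) one6)

theorem orderOf_of_ordChk {M : M6} {n : ℕ} (hn : 0 < n) (h : ordChk M n = true) : orderOf M = n := by
  unfold ordChk at h
  rw [Bool.and_eq_true, eq6_iff, pw_eq, one6_eq, List.all_eq_true] at h
  rw [orderOf_eq_iff hn]
  refine ⟨h.1, fun m hm hm0 => ?_⟩
  have := h.2 m (List.mem_range.mpr hm)
  rw [Bool.or_eq_true] at this
  rcases this with h0 | h1
  · exact absurd (by simpa using h0) hm0.ne'
  · intro hM
    have h2 : eq6 (pw M m) 1 = true := by rw [eq6_iff, pw_eq, hM]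
    rw [h2] at h1
    simp at h1

theorem orderOf_stW {w : List (ℕ × F4)} {n : ℕ} (hn : 0 < n) (h : ordChk (wm w) n = true) :
    orderOf (stW w) = n := by
  rw [← orderOf_injective rho6 rho6_injective (stW w),
    ← orderOf_injective (Units.coeHom M6) Units.val_injective (rho6 (stW w))]
  show orderOf ((rho6 (stW w) : M6ˣ) : M6) = n
  rw [rho6_stW_val]
  exact orderOf_of_ordChk hn h

/-- the chosen elements -/
def w6 : List (ℕ × F4) := [(11, F4.w), (0, F4.v), (2, F4.v)]
def w10 : List (ℕ × F4) := [(8, F4.i), (3, F4.w), (11, F4.w)]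
def w7 : List (ℕ × F4) := [(10, F4.w), (2, F4.i), (8, F4.v)]
def w13 : List (ℕ × F4) := [(3, F4.i), (4, F4.i), (9, F4.w), (5, F4.i)]

theorem order_w6 : orderOf (stW w6) = 6 := orderOf_stW (by norm_num) (by decide +kernel)
theorem order_w10 : orderOf (stW w10) = 10 := orderOf_stW (by norm_num) (by decide +kernel)
theorem order_w7 : orderOf (stW w7) = 7 := orderOf_stW (by norm_num) (by decide +kernel)
theorem order_w13 : orderOf (stW w13) = 13 := orderOf_stW (by norm_num) (by decide +kernel)

/-! ### fixed-point-freeness -/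

/-- a matrix from a list of rows -/
def ofL (L : List (List F4)) : M6 := Matrix.of fun i j => (L.getD i.val []).getD j.val 0

def inv7 : M6 := ofL [[F4.i, F4.o, F4.o, F4.v, F4.o, F4.o], [F4.o, F4.o, F4.o, F4.o, F4.v, F4.o],
  [F4.o, F4.w, F4.i, F4.o, F4.o, F4.v], [F4.o, F4.i, F4.o, F4.o, F4.o, F4.o],
  [F4.v, F4.o, F4.i, F4.w, F4.i, F4.o], [F4.i, F4.v, F4.o, F4.o, F4.o, F4.o]]

def inv13 : M6 := ofL [[F4.o, F4.o, F4.o, F4.o, F4.o, F4.w], [F4.i, F4.o, F4.i, F4.o, F4.o, F4.o],
  [F4.w, F4.i, F4.w, F4.i, F4.o, F4.o], [F4.v, F4.w, F4.w, F4.v, F4.i, F4.o],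
  [F4.w, F4.o, F4.w, F4.i, F4.i, F4.o], [F4.v, F4.w, F4.v, F4.w, F4.i, F4.i]]

theorem add_self_F4 (a : F4) : a + a = 0 := by cases a <;> rfl

theorem mul_self_V6 (n : Multiplicative V6) : n * n = 1 := by
  have h : Multiplicative.toAdd n + Multiplicative.toAdd n = 0 := by
    ext i
    exact add_self_F4 _
  exact Multiplicative.toAdd.injective h

theorem vec_eq_zero_of_inv {M N : M6} (h : eq6 (mul6 N (M + one6)) one6 = true) (v : V6)
    (hv : M *ᵥ v = v) : v = 0 := by
  rw [eq6_iff, mul6_eq, one6_eq] at h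
  have h0 : (M + 1) *ᵥ v = 0 := by
    rw [Matrix.add_mulVec, hv, Matrix.one_mulVec]
    ext i
    exact add_self_F4 (v i)
  have := congrArg (fun x => N *ᵥ x) h0
  simp only [Matrix.mulVec_mulVec, h, Matrix.one_mulVec, Matrix.mulVec_zero] at this
  exact this

theorem fpf_of_inv {w : List (ℕ × F4)} {N : M6} (h : eq6 (mul6 N (wm w + one6)) one6 = true) :
    ∀ n : Multiplicative V6, phi (stW w) n = n → n = 1 := by
  intro n hn
  have hv : wm w *ᵥ Multiplicative.toAdd n = Multiplicative.toAdd n := by
    have h1 : phi (stW w) (Multiplicative.ofAdd (Multiplicative.toAdd n)) =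
        Multiplicative.ofAdd (Multiplicative.toAdd n) := hn
    rw [phi_apply, rho6_stW_val] at h1
    exact Multiplicative.ofAdd.injective h1
  have h0 : Multiplicative.toAdd n = 0 := vec_eq_zero_of_inv h _ hv
  exact Multiplicative.toAdd.injective h0

theorem fpf_w7 : ∀ n : Multiplicative V6, phi (stW w7) n = n → n = 1 :=
  fpf_of_inv (N := inv7) (by decide +kernel)

theorem fpf_w13 : ∀ n : Multiplicative V6, phi (stW w13) n = n → n = 1 :=
  fpf_of_inv (N := inv13) (by decide +kernel)

end Cfsg.Agent.Helper19.G24
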