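import Mathlib
import Cfsg.Prelude.Def_Steinberg
import Cfsg.Prelude.Def_ChevG2
import Cfsg.Agent.Helper19.Sp4.F4

/-!
# The six-dimensional module of `G₂(4)`

Explicit `6 × 6` matrices `Y6 r t` over the field with four elements satisfying Steinberg's
relations for the datum `chevG2` (checked by kernel evaluation), hence a homomorphism from the
presented Steinberg group of type `G₂` over `F4` to the units of the matrix ring.
-/

set_option autoImplicit false
set_option linter.all false

namespace Cfsg.Agent.Helper19.G24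

open Cfsg.Lie Cfsg.Agent.Helper19.Sp4

/-- `6 × 6` matrices over the field with four elements -/
abbrev M6 : Type := Matrix (Fin 6) (Fin 6) F4

/-- entries of the root elements (weights of the six-dimensional module = short roots) -/
def yE (r : ℕ) (t : F4) (i j : ℕ) : F4 :=
  match r, i, j with
  | 0, 0, 4 => t
  | 0, 1, 5 => t
  | 1, 0, 3 => t
  | 1, 2, 5 => t
  | 2, 1, 3 => t
  | 2, 2, 4 => t
  | 2, 0, 5 => t * t
  | 3, 0, 2 => t
  | 3, 3, 5 => t
  | 3, 1, 4 => t * t
  | 4, 0, 1 => t
  | 4, 4, 5 => t
  | 4, 2, 3 => t * t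
  | 5, 1, 2 => t
  | 5, 3, 4 => t
  | 6, 2, 1 => t
  | 6, 4, 3 => t
  | 7, 1, 0 => t
  | 7, 5, 4 => t
  | 7, 3, 2 => t * t
  | 8, 2, 0 => t
  | 8, 5, 3 => t
  | 8, 4, 1 => t * t
  | 9, 3, 1 => t
  | 9, 4, 2 => t
  | 9, 5, 0 => t * t
  | 10, 3, 0 => t
  | 10, 5, 2 => t
  | 11, 4, 0 => t
  | 11, 5, 1 => t
  | _, i, j => if i = j then 1 else 0

/-- the identity matrix, in a form that evaluates well -/
def one6 : M6 := Matrix.of fun i j => if i.val = j.val then 1 else 0

theorem one6_eq : one6 = 1 := by
  ext i j
  simp [one6, Matrix.one_apply, Fin.ext_iff]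

/-- the root element `x_r(t)` on the six-dimensional module (identity out of range) -/
def Y6 (r : ℕ) (t : F4) : M6 :=
  if r < 12 then Matrix.of fun i j => yE r t i.val j.val else one6

/-- matrix product with the sums written out -/
def mul6 (A B : M6) : M6 :=
  Matrix.of fun i j => A i 0 * B 0 j + A i 1 * B 1 j + A i 2 * B 2 j + A i 3 * B 3 j +
    A i 4 * B 4 j + A i 5 * B 5 j

theorem mul6_eq (A B : M6) : mul6 A B = A * B := by
  ext i j
  simp [mul6, Matrix.mul_apply, Fin.sum_univ_six]

/-- the matrix of a word in root elements -/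
def wm (w : List (ℕ × F4)) : M6 := w.foldr (fun p acc => mul6 (Y6 p.1 p.2) acc) one6

theorem wm_eq (w : List (ℕ × F4)) : wm w = (w.map fun p => Y6 p.1 p.2).prod := by
  induction w with
  | nil => simp [wm, one6_eq]
  | cons a w ih =>
    have : wm (a :: w) = mul6 (Y6 a.1 a.2) (wm w) := rfl
    rw [this, ih, mul6_eq, List.map_cons, List.prod_cons]

def allFin6 (f : Fin 6 → Bool) : Bool := f 0 && f 1 && f 2 && f 3 && f 4 && f 5

theorem allFin6_iff (f : Fin 6 → Bool) : allFin6 f = true ↔ ∀ i, f i = true := by
  unfold allFin6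
  constructor
  · intro h i
    simp only [Bool.and_eq_true] at h
    fin_cases i <;> simp_all
  · intro h
    simp [h]

/-- Boolean equality test for matrices -/
def eq6 (A B : M6) : Bool := allFin6 fun i => allFin6 fun j => decide (A i j = B i j)

theorem eq6_iff (A B : M6) : eq6 A B = true ↔ A = B := by
  unfold eq6
  rw [allFin6_iff]
  constructor
  · intro h
    ext i j
    have := (allFin6_iff _).mp (h i) j
    simpa using this
  · rintro rfl i
    rw [allFin6_iff]
    intro j
    simp

def allF4 (f : F4 → Bool) : Bool := f F4.o && f F4.i && f F4.w && f F4.v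

theorem allF4_iff (f : F4 → Bool) : allF4 f = true ↔ ∀ a, f a = true := by
  unfold allF4
  constructor
  · intro h a
    simp only [Bool.and_eq_true] at h
    cases a <;> simp_all
  · intro h
    simp [h]

def all12 (f : ℕ → Bool) : Bool := (List.range 12).all f

theorem all12_iff (f : ℕ → Bool) : all12 f = true ↔ ∀ r < 12, f r = true := by
  unfold all12
  simp [List.all_eq_true, List.mem_range]

/-! ### the checks -/

/-- (R0) the root elements are involutions or trivial -/
def chkR0 : Bool := all12 fun r => allF4 fun a => eq6 (mul6 (Y6 r a) (Y6 r a)) one6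

/-- (R1) additivity -/
def chkR1 : Bool := all12 fun r => allF4 fun a => allF4 fun b =>
  eq6 (mul6 (Y6 r a) (Y6 r b)) (Y6 r (a + b))

/-- (R2) the commutator formula, for a fixed first root -/
def chkR2 (r : ℕ) : Bool := all12 fun s => (s == r || s == chevG2.neg r) ||
  allF4 fun t => allF4 fun u =>
    eq6 (wm [(s, u), (r, t), (s, u), (r, t)]) (wm (chevG2.commWord F4 r s t u))

/-- (R3) multiplicativity of the `h_r(t)` -/
def chkR3 : Bool := all12 fun r => allF4 fun a => allF4 fun b => (a == 0 || b == 0) ||
  eq6 (mul6 (wm (chevG2.hWord r a)) (wm (chevG2.hWord r b))) (wm (chevG2.hWord r (a * b)))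

theorem chkR0_true : chkR0 = true := by decide +kernel
theorem chkR1_true : chkR1 = true := by decide +kernel
theorem chkR3_true : chkR3 = true := by decide +kernel

end Cfsg.Agent.Helper19.G24
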