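import Cfsg.Agent.Helper19.G24.Rep6

/-! The commutator relations (R2) for the last six roots, by kernel evaluation. -/

set_option autoImplicit false

namespace Cfsg.Agent.Helper19.G24

theorem chkR2_6 : chkR2 6 = true := by decide +kernel
theorem chkR2_7 : chkR2 7 = true := by decide +kernel
theorem chkR2_8 : chkR2 8 = true := by decide +kernel
theorem chkR2_9 : chkR2 9 = true := by decide +kernel
theorem chkR2_10 : chkR2 10 = true := by decide +kernel
theorem chkR2_11 : chkR2 11 = true := by decide +kernel

end Cfsg.Agent.Helper19.G24
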